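import Groth.Agent.Lib.Helper8.WQ1

/-!
# Separable systems `X_i^p - c_i X_i - d_i`: the quotient is free of rank `p ^ #ι`
(via the root-grid toolkit of Helper8 `SepSys`).
-/

set_option autoImplicit false

namespace Groth.Agent.Helper6.WQFree

open MvPolynomial
open Groth.Agent.Helper8.SepSys

/-- exponent vectors in the box `[0, p-1]^ι` correspond to functions `ι → Fin p` -/
noncomputable def boxEquiv (ι : Type*) [Finite ι] (p : ℕ) (hp : 0 < p) :
    ↥{d : ι →₀ ℕ | ∀ i, d i ≤ p - 1} ≃ (ι → Fin p) where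
  toFun d := fun i => ⟨d.1 i, by
    have h : ∀ i, d.1 i ≤ p - 1 := d.2
    have := h i
    omega⟩
  invFun f := ⟨Finsupp.equivFunOnFinite.symm (fun i => (f i).val), by
    show ∀ i, (Finsupp.equivFunOnFinite.symm (fun i => (f i).val)) i ≤ p - 1
    intro i
    have := (f i).2
    show (f i).val ≤ p - 1
    omega⟩
  left_inv d := by
    apply Subtype.ext
    apply Finsupp.ext
    intro i
    rfl
  right_inv f := by
    funext i
    apply Fin.ext
    rfl

theorem free_quot {R K : Type*} [CommRing R] [Field K] [IsAlgClosed K] (p : ℕ) [Fact p.Prime]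
    [CharP K p] (φ : R →+* K) (hφ : Function.Injective φ) {ι : Type*} [Finite ι]
    (c d : ι → R) (hc : ∀ i, φ (c i) ≠ 0) :
    Module.Free R (MvPolynomial ι R ⧸ relIdeal p c d) ∧
    Module.Finite R (MvPolynomial ι R ⧸ relIdeal p c d) ∧
    Module.finrank R (MvPolynomial ι R ⧸ relIdeal p c d) = p ^ Nat.card ι := by
  classical
  have hp := (Fact.out : p.Prime)
  haveI : Nontrivial R := φ.domain_nontrivial
  obtain ⟨ψ, hψ⟩ : ∃ ψ : restrictDegree ι R (p - 1) →ₗ[R] (MvPolynomial ι R ⧸ relIdeal p c d),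
      ∀ G, ψ G = Ideal.Quotient.mk (relIdeal p c d) G.1 :=
    ⟨(Ideal.Quotient.mkₐ R (relIdeal p c d)).toLinearMap.comp
      (restrictDegree ι R (p - 1)).subtype, fun G => rfl⟩
  have hinj : Function.Injective ψ := by
    rw [injective_iff_map_eq_zero]
    intro G hG
    rw [hψ] at hG
    have h1 : G.1 ∈ relIdeal p c d := Ideal.Quotient.eq_zero_iff_mem.1 hG
    choose S hScard hSroot using fun i => exists_roots p (φ (c i)) (φ (d i)) (hc i)
    have h2 : G.1 = 0 := by
      refine eq_zero_of_grid φ hφ p hp.pos S hScard G.1 G.2 ?_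
      intro ρ hρ
      exact eval₂_eq_zero_of_mem φ p c d ρ (fun i => hSroot i (ρ i) (hρ i)) _ h1
    exact Subtype.ext h2
  have hsurj : Function.Surjective ψ := by
    intro t
    obtain ⟨F, rfl⟩ := Ideal.Quotient.mk_surjective t
    obtain ⟨G, hG, hFG⟩ := exists_reduced p hp.two_le c d F
    refine ⟨⟨G, hG⟩, ?_⟩
    rw [hψ]
    exact (Ideal.Quotient.eq.2 hFG).symm
  let b := ((basisRestrictSupport R {n : ι →₀ ℕ | ∀ i, n i ≤ p - 1}).map
    (LinearEquiv.ofBijective ψ ⟨hinj, hsurj⟩))
  haveI : Finite ↥{n : ι →₀ ℕ | ∀ i, n i ≤ p - 1} :=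
    Finite.of_equiv _ (boxEquiv ι p hp.pos).symm
  refine ⟨Module.Free.of_basis b, Module.Finite.of_basis b, ?_⟩
  rw [Module.finrank_eq_nat_card_basis b, Nat.card_congr (boxEquiv ι p hp.pos), Nat.card_fun,
    Nat.card_eq_fintype_card, Fintype.card_fin]

theorem as_monic {B : Type*} [CommRing B] [Nontrivial B] (p : ℕ) (hp : p.Prime) (e1 e0 : B) :
    (Polynomial.X ^ p - Polynomial.C e1 * Polynomial.X - Polynomial.C e0 : Polynomial B).Monic ∧
    (Polynomial.X ^ p - Polynomial.C e1 * Polynomial.X - Polynomial.C e0 :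
      Polynomial B).natDegree = p := by
  have hform : (Polynomial.X ^ p - Polynomial.C e1 * Polynomial.X - Polynomial.C e0 :
      Polynomial B) = Polynomial.X ^ p - (Polynomial.C e1 * Polynomial.X + Polynomial.C e0) := by
    rw [sub_sub]
  have hlin : (Polynomial.C e1 * Polynomial.X + Polynomial.C e0).degree <
      (Polynomial.X ^ p : Polynomial B).degree := by
    rw [Polynomial.degree_X_pow]
    refine lt_of_le_of_lt Polynomial.degree_linear_le ?_
    exact_mod_cast hp.one_lt
  refine ⟨?_, ?_⟩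
  · rw [hform]; exact (Polynomial.monic_X_pow p).sub_of_left hlin
  · rw [hform, Polynomial.natDegree_sub_eq_left_of_natDegree_lt, Polynomial.natDegree_X_pow]
    rw [Polynomial.natDegree_X_pow]
    exact lt_of_le_of_lt Polynomial.natDegree_linear_le hp.one_lt

end Groth.Agent.Helper6.WQFree
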