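import Groth.Agent.Lib.Helper8.WQ1

/-!
# Wild quotient singularities: invariants of the hyperplane subgroups `H_s` (S15810)

`A = R[u_1..u_n]/(u_i^p - (μ a_i)^(p-1) u_i - x_i)`, `σ_i u_j = u_j + δ_ij μ a_i`.
For `s ≠ 0` in `(ℤ/p)^n`, the invariants of `H_s = {ν : ν·s = 0}` are `R[z_s] ≅ R[T]/(f_s)`.

Method: root grid in an algebraically closed field (Helper8 `SepSys`), Lagrange interpolation
along the `H_s`-cosets, and a coprimality argument in the factorial ring `R` to descend the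
interpolating polynomial to `R`.
-/

set_option autoImplicit false

namespace Groth.Agent.Helper6.WQInv

open MvPolynomial
open Groth.Agent.Helper8.SepSys

section Group

variable {R A : Type*} [CommRing R] [CommRing A] [Algebra R A]

theorem algEquiv_pow_apply (τ : A ≃ₐ[R] A) (y : A) (r : R)
    (h : τ y = y + algebraMap R A r) (m : ℕ) :
    (τ ^ m) y = y + algebraMap R A ((m : R) * r) := by
  induction m with
  | zero => simp
  | succ m ih =>
    rw [pow_succ, AlgEquiv.mul_apply, h, map_add, ih, AlgEquiv.commutes, Nat.cast_succ, add_mul,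
      one_mul, map_add, add_assoc]

theorem list_prod_apply : ∀ (n : ℕ) (τ : Fin n → (A ≃ₐ[R] A)) (y : A) (d : Fin n → R)
    (_ : ∀ i, τ i y = y + algebraMap R A (d i)),
    (List.ofFn τ).prod y = y + algebraMap R A (∑ i, d i)
  | 0, τ, y, d, _ => by simp
  | n + 1, τ, y, d, h => by
    rw [List.ofFn_succ, List.prod_cons, AlgEquiv.mul_apply,
      list_prod_apply n (fun i => τ i.succ) y (fun i => d i.succ) (fun i => h i.succ),
      map_add, h 0, AlgEquiv.commutes, Fin.sum_univ_succ, map_add, add_assoc]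

end Group

section Poly

variable {R K : Type*} [CommRing R] [CommRing K]

theorem map_polyAeval (φ : R →+* K) {σ : Type*} (y : MvPolynomial σ R) (Q : Polynomial R) :
    map φ (Polynomial.aeval y Q) = Polynomial.aeval (map φ y) (Polynomial.map φ Q) := by
  rw [Polynomial.aeval_def, Polynomial.aeval_def, Polynomial.eval₂_map, Polynomial.hom_eval₂]
  congr 1
  refine RingHom.ext fun r => ?_
  rw [RingHom.comp_apply, RingHom.comp_apply, algebraMap_eq, algebraMap_eq, MvPolynomial.map_C]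

theorem eval₂_polyAeval (φ : R →+* K) {σ : Type*} (ρ : σ → K) (y : MvPolynomial σ R)
    (Q : Polynomial R) :
    eval₂ φ ρ (Polynomial.aeval y Q) = Polynomial.eval₂ φ (eval₂ φ ρ y) Q := by
  have h := Polynomial.hom_eval₂ Q (algebraMap R (MvPolynomial σ R)) (eval₂Hom φ ρ) y
  have hc : (eval₂Hom φ ρ).comp (algebraMap R (MvPolynomial σ R)) = φ := by
    refine RingHom.ext fun r => ?_
    rw [RingHom.comp_apply, algebraMap_eq, eval₂Hom_C]
  rw [hc] at h
  rw [Polynomial.aeval_def]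
  exact h

theorem eval_polyAeval {σ : Type*} (ρ : σ → K) (y : MvPolynomial σ K) (q : Polynomial K) :
    eval ρ (Polynomial.aeval y q) = q.eval (eval ρ y) := by
  rw [Polynomial.aeval_def, Polynomial.hom_eval₂]
  have : (eval ρ).comp (algebraMap K (MvPolynomial σ K)) = RingHom.id K := by
    refine RingHom.ext fun r => ?_
    rw [RingHom.comp_apply, algebraMap_eq, eval_C, RingHom.id_apply]
  rw [this]
  rfl

theorem aeval_line_map (φ : R →+* K) {n : ℕ} (i : Fin n) (G : MvPolynomial (Fin n) R) :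
    aeval (fun j => if j = i then (Polynomial.X : Polynomial K) else 0) (map φ G)
      = Polynomial.map φ
          (aeval (fun j => if j = i then (Polynomial.X : Polynomial R) else 0) G) := by
  induction G using MvPolynomial.induction_on with
  | C r =>
    rw [MvPolynomial.map_C, aeval_C, aeval_C, Polynomial.algebraMap_eq, Polynomial.algebraMap_eq,
      Polynomial.map_C]
  | add f g hf hg => rw [map_add, map_add, hf, hg, map_add, Polynomial.map_add]
  | mul_X f j hf =>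
    rw [map_mul, map_mul, hf, MvPolynomial.map_X, aeval_X, map_mul, aeval_X, Polynomial.map_mul]
    congr 1
    split_ifs
    · rw [Polynomial.map_X]
    · rw [Polynomial.map_zero]

end Poly

section Main

variable {R K : Type*} [CommRing R] [Field K]

/-- root tuples of the system `u_i^p - (μ a_i)^(p-1) u_i - x_i` -/
def IsRoot (p : ℕ) (φ : R →+* K) {n : ℕ} (a : Fin n → R) (μ : R) (x : Fin n → R)
    (ρ : Fin n → K) : Prop :=
  ∀ i, ρ i ^ p - φ ((μ * a i) ^ (p - 1)) * ρ i - φ (x i) = 0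

/-- translate a tuple by `ν ∈ (ℤ/p)^n` -/
def shift {p : ℕ} (φ : R →+* K) (ιR : ZMod p →+* R) {n : ℕ} (a : Fin n → R) (μ : R)
    (ρ : Fin n → K) (ν : Fin n → ZMod p) : Fin n → K :=
  fun i => ρ i + φ (ιR (ν i) * (μ * a i))

theorem shift_add {p : ℕ} (φ : R →+* K) (ιR : ZMod p →+* R) {n : ℕ} (a : Fin n → R) (μ : R)
    (ρ : Fin n → K) (ν ν' : Fin n → ZMod p) :
    shift φ ιR a μ (shift φ ιR a μ ρ ν) ν' = shift φ ιR a μ ρ (ν + ν') := by
  funext i
  simp only [shift, Pi.add_apply, map_add, add_mul, add_assoc]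

theorem isRoot_shift {p : ℕ} [Fact p.Prime] [CharP K p] (φ : R →+* K) (ιR : ZMod p →+* R)
    {n : ℕ} (a : Fin n → R) (μ : R) (x : Fin n → R) (ρ : Fin n → K)
    (hρ : IsRoot p φ a μ x ρ) (ν : Fin n → ZMod p) :
    IsRoot p φ a μ x (shift φ ιR a μ ρ ν) := by
  intro i
  have hp := (Fact.out : p.Prime)
  have h := hρ i
  have he : φ (ιR (ν i)) ^ p = φ (ιR (ν i)) := by
    rw [← map_pow, ← map_pow, ZMod.pow_card]
  have hp1 : φ (μ * a i) ^ p = φ (μ * a i) ^ (p - 1) * φ (μ * a i) := by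
    rw [← pow_succ, Nat.sub_add_cancel hp.one_le]
  rw [map_pow] at h
  show (ρ i + φ (ιR (ν i) * (μ * a i))) ^ p
    - φ ((μ * a i) ^ (p - 1)) * (ρ i + φ (ιR (ν i) * (μ * a i))) - φ (x i) = 0
  rw [map_pow, map_mul φ (ιR (ν i)) (μ * a i), add_pow_char, mul_pow, he]
  linear_combination h + φ (ιR (ν i)) * hp1

/-- the polynomial lift of `z_s` -/
noncomputable def zt {p : ℕ} (ιR : ZMod p →+* R) {n : ℕ} (a : Fin n → R) (s : Fin n → ZMod p)
    (S : Finset (Fin n)) : MvPolynomial (Fin n) R :=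
  ∑ i ∈ S, C (ιR (s i) * ∏ j ∈ S.erase i, a j) * X i

/-- the substitution `u_j ↦ u_j + ν_j μ a_j` -/
noncomputable def subst {p : ℕ} (ιR : ZMod p →+* R) {n : ℕ} (a : Fin n → R) (μ : R)
    (ν : Fin n → ZMod p) (j : Fin n) : MvPolynomial (Fin n) R :=
  X j + C (ιR (ν j) * (μ * a j))

/-- the polynomial `f_s` -/
noncomputable def fs (p : ℕ) (ιR : ZMod p →+* R) {n : ℕ} (a : Fin n → R) (μ : R)
    (x : Fin n → R) (s : Fin n → ZMod p) (S : Finset (Fin n)) : Polynomial R :=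
  Polynomial.X ^ p - Polynomial.C ((μ * ∏ i ∈ S, a i) ^ (p - 1)) * Polynomial.X
    - Polynomial.C (∑ i ∈ S, ιR (s i) * (∏ j ∈ S.erase i, a j) ^ p * x i)

theorem sum_single {p : ℕ} {n : ℕ} (s : Fin n → ZMod p) (i1 : Fin n) (e : ZMod p) :
    ∑ i, (Pi.single i1 e : Fin n → ZMod p) i * s i = e * s i1 := by
  rw [Finset.sum_eq_single i1]
  · rw [Pi.single_eq_same]
  · intro j _ hj
    rw [Pi.single_eq_of_ne hj, zero_mul]
  · intro h; exact absurd (Finset.mem_univ _) h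

theorem sum_shift_eq {p : ℕ} (ιR : ZMod p →+* R) {n : ℕ} (a : Fin n → R) (μ : R)
    (s : Fin n → ZMod p) (S : Finset (Fin n)) (hS : ∀ i, i ∈ S ↔ s i ≠ 0)
    (ν : Fin n → ZMod p) :
    ∑ i ∈ S, (ιR (s i) * ∏ j ∈ S.erase i, a j) * (ιR (ν i) * (μ * a i))
      = μ * (∏ i ∈ S, a i) * ιR (∑ i, ν i * s i) := by
  have h1 : ∀ i ∈ S, (ιR (s i) * ∏ j ∈ S.erase i, a j) * (ιR (ν i) * (μ * a i))
      = μ * (∏ i ∈ S, a i) * ιR (ν i * s i) := by
    intro i hi
    rw [← Finset.mul_prod_erase S a hi, map_mul]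
    ring
  have h2 : ∑ i ∈ S, ν i * s i = ∑ i, ν i * s i := by
    apply Finset.sum_subset (Finset.subset_univ S)
    intro i _ hi
    have : s i = 0 := by
      by_contra h; exact hi ((hS i).2 h)
    rw [this, mul_zero]
  rw [Finset.sum_congr rfl h1, ← Finset.mul_sum, ← map_sum, h2]

theorem eval₂_zt {p : ℕ} (φ : R →+* K) (ιR : ZMod p →+* R) {n : ℕ} (a : Fin n → R)
    (s : Fin n → ZMod p) (S : Finset (Fin n)) (ρ : Fin n → K) :
    eval₂ φ ρ (zt ιR a s S) = ∑ i ∈ S, φ (ιR (s i) * ∏ j ∈ S.erase i, a j) * ρ i := by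
  simp only [zt, eval₂_sum, eval₂_mul, eval₂_C, eval₂_X]

theorem eval₂_zt_shift {p : ℕ} (φ : R →+* K) (ιR : ZMod p →+* R) {n : ℕ} (a : Fin n → R)
    (μ : R) (s : Fin n → ZMod p) (S : Finset (Fin n)) (hS : ∀ i, i ∈ S ↔ s i ≠ 0)
    (ρ : Fin n → K) (ν : Fin n → ZMod p) :
    eval₂ φ (shift φ ιR a μ ρ ν) (zt ιR a s S)
      = eval₂ φ ρ (zt ιR a s S) + φ (μ * (∏ i ∈ S, a i) * ιR (∑ i, ν i * s i)) := by
  rw [eval₂_zt, eval₂_zt, ← sum_shift_eq ιR a μ s S hS ν, map_sum, ← Finset.sum_add_distrib]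
  refine Finset.sum_congr rfl fun i _ => ?_
  show φ (ιR (s i) * ∏ j ∈ S.erase i, a j) * (ρ i + φ (ιR (ν i) * (μ * a i))) = _
  rw [map_mul φ (ιR (s i) * ∏ j ∈ S.erase i, a j) (ιR (ν i) * (μ * a i)), mul_add]

theorem eval₂_subst {p : ℕ} (φ : R →+* K) (ιR : ZMod p →+* R) {n : ℕ} (a : Fin n → R)
    (μ : R) (ρ : Fin n → K) (ν : Fin n → ZMod p) (G : MvPolynomial (Fin n) R) :
    eval₂ φ ρ (aeval (subst ιR a μ ν) G) = eval₂ φ (shift φ ιR a μ ρ ν) G := by
  rw [eval₂_aeval']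
  congr 1
  funext i
  simp only [subst, shift, eval₂_add, eval₂_X, eval₂_C]

theorem aeval_subst_zt {p : ℕ} (ιR : ZMod p →+* R) {n : ℕ} (a : Fin n → R) (μ : R)
    (s : Fin n → ZMod p) (S : Finset (Fin n)) (hS : ∀ i, i ∈ S ↔ s i ≠ 0)
    (ν : Fin n → ZMod p) :
    aeval (subst ιR a μ ν) (zt ιR a s S)
      = zt ιR a s S + C (μ * (∏ i ∈ S, a i) * ιR (∑ i, ν i * s i)) := by
  rw [← sum_shift_eq ιR a μ s S hS ν]
  unfold zt
  rw [map_sum, map_sum, ← Finset.sum_add_distrib]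
  refine Finset.sum_congr rfl fun i _ => ?_
  rw [map_mul, aeval_C, aeval_X, algebraMap_eq, subst, mul_add, ← C_mul]

/-- the coprimality descent: an element of `K` all of whose multiples by the `α_i ^ m` lie in
`R` lies in `R`. -/
theorem lift_coeff [IsDomain R] [UniqueFactorizationMonoid R] (φ : R →+* K)
    (hφ : Function.Injective φ) {n : ℕ} (a : Fin n → R) (ha : ∀ i, a i ≠ 0)
    (hcop : ∀ i j, i ≠ j → IsRelPrime (a i) (a j))
    (S : Finset (Fin n)) (i1 : Fin n) (hi1 : i1 ∈ S) (m : ℕ) (y : K)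
    (hy : ∀ i ∈ S, ∃ g : R, y * φ (∏ j ∈ S.erase i, a j) ^ m = φ g) :
    ∃ r : R, φ r = y := by
  classical
  obtain ⟨g1, hg1⟩ := hy i1 hi1
  have hα1 : φ (∏ j ∈ S.erase i1, a j) ≠ 0 :=
    (map_ne_zero_iff φ hφ).2 (Finset.prod_ne_zero_iff.2 fun j _ => ha j)
  have hdvd : ∀ j ∈ S.erase i1, a j ^ m ∣ g1 := by
    intro j hj
    have hjS : j ∈ S := Finset.mem_of_mem_erase hj
    obtain ⟨gj, hgj⟩ := hy j hjS
    have heq : g1 * (∏ l ∈ S.erase j, a l) ^ m = gj * (∏ l ∈ S.erase i1, a l) ^ m := by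
      apply hφ
      rw [map_mul, map_mul, map_pow, map_pow, ← hg1, ← hgj]
      ring
    have h1 : a j ^ m ∣ (∏ l ∈ S.erase i1, a l) ^ m :=
      pow_dvd_pow_of_dvd (Finset.dvd_prod_of_mem a hj) m
    have h2 : a j ^ m ∣ g1 * (∏ l ∈ S.erase j, a l) ^ m := by
      rw [heq]; exact Dvd.dvd.mul_left h1 gj
    have h3 : IsRelPrime (a j ^ m) ((∏ l ∈ S.erase j, a l) ^ m) := by
      apply IsRelPrime.pow
      apply IsRelPrime.prod_right
      intro l hl
      exact hcop j l (Finset.ne_of_mem_erase hl).symm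
    exact h3.dvd_of_dvd_mul_right h2
  have hprod : ∏ j ∈ S.erase i1, a j ^ m ∣ g1 := by
    refine Finset.prod_dvd_of_isRelPrime ?_ hdvd
    intro j _ l _ hjl
    exact (hcop j l hjl).pow
  rw [Finset.prod_pow] at hprod
  obtain ⟨r, hr⟩ := hprod
  refine ⟨r, ?_⟩
  have h4 : φ r * φ (∏ j ∈ S.erase i1, a j) ^ m = y * φ (∏ j ∈ S.erase i1, a j) ^ m := by
    rw [hg1, hr, map_mul, map_pow]; ring
  exact mul_right_cancel₀ (pow_ne_zero m hα1) h4

/-- base root, pivot index and the `p` interpolation nodes -/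
theorem exists_nodes {p : ℕ} [Fact p.Prime] [CharP K p] [IsDomain R] [IsAlgClosed K]
    (φ : R →+* K) (hφ : Function.Injective φ) (ιR : ZMod p →+* R) {n : ℕ}
    (a : Fin n → R) (μ : R) (x : Fin n → R) (ha : ∀ i, a i ≠ 0) (hμ : μ ≠ 0)
    (s : Fin n → ZMod p) (hs : s ≠ 0) (S : Finset (Fin n)) (hS : ∀ i, i ∈ S ↔ s i ≠ 0) :
    ∃ (θ : Fin n → K) (i1 : Fin n), IsRoot p φ a μ x θ ∧ i1 ∈ S ∧
      Function.Injective (fun e : ZMod p =>
        eval₂ φ θ (zt ιR a s S) + φ (μ * (∏ i ∈ S, a i) * ιR (e * s i1))) ∧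
      ∀ e : ZMod p, eval₂ φ (shift φ ιR a μ θ (Pi.single i1 e)) (zt ιR a s S)
        = eval₂ φ θ (zt ιR a s S) + φ (μ * (∏ i ∈ S, a i) * ιR (e * s i1)) := by
  classical
  have hp := (Fact.out : p.Prime)
  obtain ⟨i1, hi1⟩ : ∃ i, s i ≠ 0 := by
    by_contra h
    exact hs (funext fun i => by
      by_contra hi
      exact h ⟨i, hi⟩)
  have hcF : ∀ i, φ ((μ * a i) ^ (p - 1)) ≠ 0 := fun i =>
    (map_ne_zero_iff φ hφ).2 (pow_ne_zero _ (mul_ne_zero hμ (ha i)))
  have hroots : ∀ i, ∃ t : K, t ^ p - φ ((μ * a i) ^ (p - 1)) * t - φ (x i) = 0 := by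
    intro i
    obtain ⟨T, hT, hTr⟩ := exists_roots p (φ ((μ * a i) ^ (p - 1))) (φ (x i)) (hcF i)
    obtain ⟨t, ht⟩ : T.Nonempty := Finset.card_pos.1 (by rw [hT]; exact hp.pos)
    exact ⟨t, hTr t ht⟩
  choose θ hθ using hroots
  have hι : Function.Injective ιR := RingHom.injective ιR
  have hα : (∏ i ∈ S, a i) ≠ 0 := Finset.prod_ne_zero_iff.2 fun i _ => ha i
  refine ⟨θ, i1, hθ, (hS i1).2 hi1, ?_, ?_⟩
  · intro e e' h
    beta_reduce at h
    have h1 := hφ (add_left_cancel h)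
    have h2 := hι (mul_left_cancel₀ (mul_ne_zero hμ hα) h1)
    exact mul_right_cancel₀ hi1 h2
  · intro e
    rw [eval₂_zt_shift φ ιR a μ s S hS, sum_single s i1 e]

theorem fs_monic {p : ℕ} [Fact p.Prime] [Nontrivial R] (ιR : ZMod p →+* R) {n : ℕ}
    (a : Fin n → R) (μ : R) (x : Fin n → R) (s : Fin n → ZMod p) (S : Finset (Fin n)) :
    (fs p ιR a μ x s S).Monic ∧ (fs p ιR a μ x s S).natDegree = p := by
  have hp := (Fact.out : p.Prime)
  obtain ⟨e1, he1⟩ : ∃ e1 : R, e1 = (μ * ∏ i ∈ S, a i) ^ (p - 1) := ⟨_, rfl⟩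
  obtain ⟨e0, he0⟩ : ∃ e0 : R, e0 = ∑ i ∈ S, ιR (s i) * (∏ j ∈ S.erase i, a j) ^ p * x i :=
    ⟨_, rfl⟩
  have hform : fs p ιR a μ x s S
      = Polynomial.X ^ p - (Polynomial.C e1 * Polynomial.X + Polynomial.C e0) := by
    rw [fs, ← he1, ← he0, sub_sub]
  have hlin : (Polynomial.C e1 * Polynomial.X + Polynomial.C e0).degree <
      (Polynomial.X ^ p : Polynomial R).degree := by
    rw [Polynomial.degree_X_pow]
    refine lt_of_le_of_lt Polynomial.degree_linear_le ?_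
    exact_mod_cast hp.one_lt
  refine ⟨?_, ?_⟩
  · rw [hform]; exact (Polynomial.monic_X_pow p).sub_of_left hlin
  · rw [hform, Polynomial.natDegree_sub_eq_left_of_natDegree_lt, Polynomial.natDegree_X_pow]
    rw [Polynomial.natDegree_X_pow]
    exact lt_of_le_of_lt Polynomial.natDegree_linear_le hp.one_lt

theorem fs_root {p : ℕ} [Fact p.Prime] [CharP K p] (φ : R →+* K) (ιR : ZMod p →+* R) {n : ℕ}
    (a : Fin n → R) (μ : R) (x : Fin n → R) (s : Fin n → ZMod p) (S : Finset (Fin n))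
    (ρ : Fin n → K) (hρ : IsRoot p φ a μ x ρ) :
    Polynomial.eval₂ φ (eval₂ φ ρ (zt ιR a s S)) (fs p ιR a μ x s S) = 0 := by
  have hp := (Fact.out : p.Prime)
  rw [eval₂_zt]
  simp only [fs, Polynomial.eval₂_sub, Polynomial.eval₂_mul, Polynomial.eval₂_pow,
    Polynomial.eval₂_X, Polynomial.eval₂_C]
  rw [sum_pow_char, Finset.mul_sum, map_sum, ← Finset.sum_sub_distrib, ← Finset.sum_sub_distrib]
  apply Finset.sum_eq_zero
  intro i hi
  have h := hρ i
  have hc : φ (ιR (s i)) ^ p = φ (ιR (s i)) := by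
    rw [← map_pow, ← map_pow, ZMod.pow_card]
  have hα : (μ * ∏ j ∈ S, a j) ^ (p - 1) * (∏ j ∈ S.erase i, a j)
      = (∏ j ∈ S.erase i, a j) ^ p * (μ * a i) ^ (p - 1) := by
    rw [← Finset.mul_prod_erase S a hi]
    obtain ⟨q, hq⟩ : ∃ q, p = q + 1 := ⟨p - 1, by have := hp.pos; omega⟩
    have hq' : p - 1 = q := by omega
    rw [hq', hq]; ring
  have hαK : φ ((μ * ∏ j ∈ S, a j) ^ (p - 1)) * φ (∏ j ∈ S.erase i, a j)
      = φ (∏ j ∈ S.erase i, a j) ^ p * φ ((μ * a i) ^ (p - 1)) := by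
    rw [← map_pow, ← map_mul, ← map_mul, hα]
  rw [map_mul φ (ιR (s i)) (∏ j ∈ S.erase i, a j),
    map_mul φ (ιR (s i) * (∏ j ∈ S.erase i, a j) ^ p) (x i),
    map_mul φ (ιR (s i)) ((∏ j ∈ S.erase i, a j) ^ p), map_pow φ (∏ j ∈ S.erase i, a j) p]
  linear_combination (φ (∏ j ∈ S.erase i, a j) ^ p * ρ i ^ p) * hc
    + (φ (ιR (s i)) * φ (∏ j ∈ S.erase i, a j) ^ p) * h
    - (φ (ιR (s i)) * ρ i) * hαK

/-- **Invariants, polynomial level.** A reduced polynomial which is invariant modulo the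
relations under all translations in `H_s` is a polynomial in `z_s` over `R`. -/
theorem inv_poly {p : ℕ} [Fact p.Prime] [CharP K p] [IsDomain R] [UniqueFactorizationMonoid R]
    [IsAlgClosed K] (φ : R →+* K) (hφ : Function.Injective φ) (ιR : ZMod p →+* R) {n : ℕ}
    (a : Fin n → R) (μ : R) (x : Fin n → R) (ha : ∀ i, a i ≠ 0) (hμ : μ ≠ 0)
    (hcop : ∀ i j, i ≠ j → IsRelPrime (a i) (a j))
    (s : Fin n → ZMod p) (hs : s ≠ 0) (S : Finset (Fin n)) (hS : ∀ i, i ∈ S ↔ s i ≠ 0)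
    (G : MvPolynomial (Fin n) R) (hG : G ∈ restrictDegree (Fin n) R (p - 1))
    (hinv : ∀ ν : Fin n → ZMod p, ∑ i, ν i * s i = 0 →
      aeval (subst ιR a μ ν) G - G ∈ relIdeal p (fun i => (μ * a i) ^ (p - 1)) x) :
    ∃ Q : Polynomial R, G = Polynomial.aeval (zt ιR a s S) Q := by
  classical
  have hp := (Fact.out : p.Prime)
  haveI : NeZero p := ⟨hp.ne_zero⟩
  obtain ⟨θ, i1, hθ, hi1S, hvinj0, hρz0⟩ := exists_nodes φ hφ ιR a μ x ha hμ s hs S hS
  have hi1 : s i1 ≠ 0 := (hS i1).1 hi1S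
  have hι : Function.Injective ιR := RingHom.injective ιR
  obtain ⟨v, hv⟩ : ∃ v : ZMod p → K, v = fun e : ZMod p =>
      eval₂ φ θ (zt ιR a s S) + φ (μ * (∏ i ∈ S, a i) * ιR (e * s i1)) := ⟨_, rfl⟩
  have hvinj : Function.Injective v := by rw [hv]; exact hvinj0
  obtain ⟨ρe, hρe⟩ : ∃ ρe : ZMod p → Fin n → K,
      ρe = fun e => shift φ ιR a μ θ (Pi.single i1 e) := ⟨_, rfl⟩
  have hρz : ∀ e, eval₂ φ (ρe e) (zt ιR a s S) = v e := by
    intro e; rw [hv, hρe]; exact hρz0 e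
  have hρroot : ∀ e : ZMod p, IsRoot p φ a μ x (ρe e) := by
    intro e; rw [hρe]; exact isRoot_shift φ ιR a μ x θ hθ _
  -- invariance of values
  have hGinv : ∀ (ρ : Fin n → K), IsRoot p φ a μ x ρ → ∀ ν : Fin n → ZMod p,
      ∑ i, ν i * s i = 0 → eval₂ φ (shift φ ιR a μ ρ ν) G = eval₂ φ ρ G := by
    intro ρ hρ ν hν
    have h1 := eval₂_eq_zero_of_mem φ p (fun i => (μ * a i) ^ (p - 1)) x ρ hρ _ (hinv ν hν)
    rw [MvPolynomial.eval₂_sub, eval₂_subst φ ιR a μ ρ ν G, sub_eq_zero] at h1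
    exact h1
  -- interpolation
  obtain ⟨w, hw⟩ : ∃ w : ZMod p → K, ∀ e, w e = eval₂ φ (ρe e) G :=
    ⟨fun e => eval₂ φ (ρe e) G, fun e => rfl⟩
  obtain ⟨q, hq⟩ : ∃ q : Polynomial K, q = Lagrange.interpolate Finset.univ v w := ⟨_, rfl⟩
  have hqdeg : q.degree < p := by
    have h1 := Lagrange.degree_interpolate_lt (s := Finset.univ) w (hvinj.injOn)
    rw [Finset.card_univ, ZMod.card] at h1
    rw [hq]; exact h1
  have hqnat : q.natDegree ≤ p - 1 := by
    by_cases hq0 : q = 0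
    · rw [hq0, Polynomial.natDegree_zero]; omega
    · have h1 := (Polynomial.natDegree_lt_iff_degree_lt hq0).2 hqdeg
      omega
  have hqev : ∀ e, q.eval (v e) = w e := by
    intro e
    rw [hq]
    exact Lagrange.eval_interpolate_at_node w hvinj.injOn (Finset.mem_univ e)
  -- the difference polynomial over `K`
  obtain ⟨zK, hzK⟩ : ∃ zK : MvPolynomial (Fin n) K, zK = map φ (zt ιR a s S) := ⟨_, rfl⟩
  have hzK_hom : zK.IsHomogeneous 1 := by
    rw [hzK, zt, map_sum]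
    apply IsHomogeneous.sum
    intro i _
    rw [map_mul, MvPolynomial.map_C, MvPolynomial.map_X]
    exact isHomogeneous_C_mul_X _ _
  have hpow_deg : ∀ m ≤ p - 1, zK ^ m ∈ restrictDegree (Fin n) K (p - 1) := by
    intro m hm
    rw [mem_restrictDegree]
    intro d hd i
    have h1 := monomial_le_degreeOf i hd
    have h2 := degreeOf_le_totalDegree (zK ^ m) i
    have h3 := (hzK_hom.pow m).totalDegree_le
    rw [one_mul] at h3
    omega
  have hD : map φ G - Polynomial.aeval zK q ∈ restrictDegree (Fin n) K (p - 1) := by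
    apply Submodule.sub_mem
    · rw [mem_restrictDegree]
      intro d hd i
      exact (mem_restrictDegree (Fin n) G (p - 1)).1 hG d (support_map_subset φ G hd) i
    · rw [Polynomial.aeval_eq_sum_range]
      apply Submodule.sum_mem
      intro m hm
      apply Submodule.smul_mem
      apply hpow_deg
      have h1 := Finset.mem_range.1 hm
      omega
  have hzKev : ∀ ρ : Fin n → K, eval ρ zK = eval₂ φ ρ (zt ιR a s S) := by
    intro ρ; rw [hzK, eval_map]
  -- grid sets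
  obtain ⟨Sg, hSg⟩ : ∃ Sg : Fin n → Finset K, ∀ i, Sg i =
      Finset.univ.image (fun e : ZMod p => θ i + φ (ιR e * (μ * a i))) :=
    ⟨fun i => Finset.univ.image (fun e : ZMod p => θ i + φ (ιR e * (μ * a i))), fun i => rfl⟩
  have hSgcard : ∀ i, (Sg i).card = p := by
    intro i
    rw [hSg i, Finset.card_image_of_injective, Finset.card_univ, ZMod.card]
    intro e e' h
    beta_reduce at h
    have h1 := hφ (add_left_cancel h)
    exact hι (mul_right_cancel₀ (mul_ne_zero hμ (ha i)) h1)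
  have hD0 : map φ G - Polynomial.aeval zK q = 0 := by
    refine eq_zero_of_grid (RingHom.id K) Function.injective_id p hp.pos Sg hSgcard _ hD ?_
    intro ρ hρ
    have hm : ∀ i, ∃ e : ZMod p, θ i + φ (ιR e * (μ * a i)) = ρ i := by
      intro i
      have h1 := hρ i
      rw [hSg i, Finset.mem_image] at h1
      obtain ⟨e, _, he⟩ := h1
      exact ⟨e, he⟩
    choose m hm using hm
    have hρm : ρ = shift φ ιR a μ θ m := by
      funext i; exact (hm i).symm
    obtain ⟨e, he⟩ : ∃ e : ZMod p, e = (∑ i, m i * s i) * (s i1)⁻¹ := ⟨_, rfl⟩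
    obtain ⟨ν, hν⟩ : ∃ ν : Fin n → ZMod p, ν = m - Pi.single i1 e := ⟨_, rfl⟩
    have hνs : ∑ i, ν i * s i = 0 := by
      have h1 : ∀ i, ν i * s i = m i * s i - (Pi.single i1 e : Fin n → ZMod p) i * s i := by
        intro i; rw [hν, Pi.sub_apply, sub_mul]
      rw [Finset.sum_congr rfl fun i _ => h1 i, Finset.sum_sub_distrib, sum_single s i1 e, he,
        inv_mul_cancel_right₀ hi1, sub_self]
    have hρ2 : ρ = shift φ ιR a μ (ρe e) ν := by
      rw [hρm, hρe, shift_add, hν, add_sub_cancel]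
    have hG1 : eval₂ φ ρ G = w e := by
      rw [hρ2, hGinv _ (hρroot e) ν hνs, hw e]
    have hz1 : eval₂ φ ρ (zt ιR a s S) = v e := by
      rw [hρ2, eval₂_zt_shift φ ιR a μ s S hS, hνs, map_zero, mul_zero, map_zero, add_zero,
        hρz e]
    rw [eval₂_id, map_sub, eval_map, eval_polyAeval, hzKev, hG1, hz1, hqev, sub_self]
  have hmap : map φ G = Polynomial.aeval zK q := sub_eq_zero.1 hD0
  -- coefficients of `q` along the coordinate lines
  have hcoef : ∀ m : ℕ, ∀ i ∈ S,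
      ∃ g : R, q.coeff m * φ (∏ j ∈ S.erase i, a j) ^ m = φ g := by
    intro m i hi
    have hsi : s i ≠ 0 := (hS i).1 hi
    have hzline : aeval (fun j => if j = i then (Polynomial.X : Polynomial K) else 0) zK
        = Polynomial.C (φ (ιR (s i) * ∏ j ∈ S.erase i, a j)) * Polynomial.X := by
      rw [hzK, zt, map_sum, map_sum, Finset.sum_eq_single i]
      · rw [map_mul, MvPolynomial.map_C, MvPolynomial.map_X, map_mul, aeval_C, aeval_X,
          Polynomial.algebraMap_eq, if_pos rfl]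
      · intro j _ hj
        rw [map_mul, MvPolynomial.map_C, MvPolynomial.map_X, map_mul, aeval_X, if_neg hj,
          mul_zero]
      · intro h; exact absurd hi h
    have h1 := congrArg (aeval (fun j => if j = i then (Polynomial.X : Polynomial K) else 0))
      hmap
    rw [aeval_line_map φ i G,
      ← Polynomial.aeval_algHom_apply
        (aeval (fun j => if j = i then (Polynomial.X : Polynomial K) else 0)) zK q,
      hzline] at h1
    have h3 : Polynomial.aeval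
          (Polynomial.C (φ (ιR (s i) * ∏ j ∈ S.erase i, a j)) * Polynomial.X) q
        = q.comp (Polynomial.C (φ (ιR (s i) * ∏ j ∈ S.erase i, a j)) * Polynomial.X) := by
      rw [Polynomial.aeval_def, Polynomial.algebraMap_eq]
      rfl
    rw [h3] at h1
    have h2 := congrArg (fun P => Polynomial.coeff P m) h1
    beta_reduce at h2
    rw [Polynomial.coeff_map, Polynomial.comp_C_mul_X_coeff, map_mul] at h2
    have hunit : φ (ιR (s i)) * φ (ιR (s i)⁻¹) = 1 := by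
      rw [← map_mul, ← map_mul, mul_inv_cancel₀ hsi, map_one, map_one]
    refine ⟨(aeval (fun j => if j = i then (Polynomial.X : Polynomial R) else 0) G).coeff m
      * ιR ((s i)⁻¹) ^ m, ?_⟩
    rw [map_mul, map_pow, h2]
    have h4 : (φ (ιR (s i)) * φ (ιR (s i)⁻¹)) ^ m = 1 := by rw [hunit, one_pow]
    linear_combination (- q.coeff m * φ (∏ j ∈ S.erase i, a j) ^ m) * h4
  have hlift : q ∈ Polynomial.lifts φ := by
    rw [Polynomial.lifts_iff_coeff_lifts]
    intro m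
    obtain ⟨r, hr⟩ := lift_coeff φ hφ a ha hcop S i1 hi1S m (q.coeff m) (hcoef m)
    exact ⟨r, hr⟩
  obtain ⟨Q, hQ⟩ := (Polynomial.mem_lifts q).1 hlift
  refine ⟨Q, ?_⟩
  apply map_injective φ hφ
  rw [map_polyAeval, hQ, ← hzK]
  exact hmap

/-- **Kernel, polynomial level.** -/
theorem ker_poly {p : ℕ} [Fact p.Prime] [CharP K p] [IsDomain R] [IsAlgClosed K]
    (φ : R →+* K) (hφ : Function.Injective φ) (ιR : ZMod p →+* R) {n : ℕ}
    (a : Fin n → R) (μ : R) (x : Fin n → R) (ha : ∀ i, a i ≠ 0) (hμ : μ ≠ 0)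
    (s : Fin n → ZMod p) (hs : s ≠ 0) (S : Finset (Fin n)) (hS : ∀ i, i ∈ S ↔ s i ≠ 0)
    (Q : Polynomial R) :
    Polynomial.aeval (zt ιR a s S) Q ∈ relIdeal p (fun i => (μ * a i) ^ (p - 1)) x
      ↔ fs p ιR a μ x s S ∣ Q := by
  classical
  have hp := (Fact.out : p.Prime)
  haveI : NeZero p := ⟨hp.ne_zero⟩
  obtain ⟨θ, i1, hθ, hi1S, hvinj, hρz⟩ := exists_nodes φ hφ ιR a μ x ha hμ s hs S hS
  obtain ⟨hfmonic, hfnat⟩ := fs_monic ιR a μ x s S
  have hcF : ∀ i, φ ((μ * a i) ^ (p - 1)) ≠ 0 := fun i =>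
    (map_ne_zero_iff φ hφ).2 (pow_ne_zero _ (mul_ne_zero hμ (ha i)))
  have hfmem : Polynomial.aeval (zt ιR a s S) (fs p ιR a μ x s S)
      ∈ relIdeal p (fun i => (μ * a i) ^ (p - 1)) x := by
    refine mem_of_forall_eval₂ φ hφ p (fun i => (μ * a i) ^ (p - 1)) x hcF _ ?_
    intro ρ hρ
    rw [eval₂_polyAeval]
    exact fs_root φ ιR a μ x s S ρ hρ
  constructor
  · intro hQ
    have hmod := Polynomial.modByMonic_add_div Q (fs p ιR a μ x s S)
    have h1 : Q %ₘ fs p ιR a μ x s S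
        = Q - fs p ιR a μ x s S * (Q /ₘ fs p ιR a μ x s S) := eq_sub_of_add_eq hmod
    have hr : Polynomial.aeval (zt ιR a s S) (Q %ₘ fs p ιR a μ x s S)
        ∈ relIdeal p (fun i => (μ * a i) ^ (p - 1)) x := by
      rw [h1, map_sub, map_mul]
      exact Ideal.sub_mem _ hQ (Ideal.mul_mem_right _ _ hfmem)
    have hf1 : fs p ιR a μ x s S ≠ 1 := by
      intro h
      rw [h, Polynomial.natDegree_one] at hfnat
      exact hp.ne_zero hfnat.symm
    have hrdeg : (Q %ₘ fs p ιR a μ x s S).natDegree < p := by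
      have h2 := Polynomial.natDegree_modByMonic_lt Q hfmonic hf1
      rwa [hfnat] at h2
    have hev : ∀ e : ZMod p, ((Q %ₘ fs p ιR a μ x s S).map φ).eval
        (eval₂ φ θ (zt ιR a s S) + φ (μ * (∏ i ∈ S, a i) * ιR (e * s i1))) = 0 := by
      intro e
      rw [Polynomial.eval_map, ← hρz e, ← eval₂_polyAeval]
      exact eval₂_eq_zero_of_mem φ p (fun i => (μ * a i) ^ (p - 1)) x _
        (isRoot_shift φ ιR a μ x θ hθ _) _ hr
    have hr0 : (Q %ₘ fs p ιR a μ x s S).map φ = 0 := by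
      refine Polynomial.eq_zero_of_natDegree_lt_card_of_eval_eq_zero' _
        (Finset.univ.image (fun e : ZMod p =>
          eval₂ φ θ (zt ιR a s S) + φ (μ * (∏ i ∈ S, a i) * ιR (e * s i1)))) ?_ ?_
      · intro y hy
        obtain ⟨e, _, rfl⟩ := Finset.mem_image.1 hy
        exact hev e
      · rw [Finset.card_image_of_injective _ hvinj, Finset.card_univ, ZMod.card]
        exact lt_of_le_of_lt Polynomial.natDegree_map_le hrdeg
    have hr0' : Q %ₘ fs p ιR a μ x s S = 0 :=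
      Polynomial.map_injective φ hφ (by rw [hr0, Polynomial.map_zero])
    rw [hr0', zero_add] at hmod
    exact ⟨Q /ₘ fs p ιR a μ x s S, hmod.symm⟩
  · rintro ⟨c, rfl⟩
    rw [map_mul]
    exact Ideal.mul_mem_right _ _ hfmem

end Main

end Groth.Agent.Helper6.WQInv
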