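import Groth.Agent.Lib.Helper6.WQ.Inv1

/-!
# Wild quotient singularities: invariants of `H_s`, abstract form of S15810
-/

set_option autoImplicit false

namespace Groth.Agent.Helper6.WQInv

open MvPolynomial
open Groth.Agent.Helper8.SepSys

theorem main {R K : Type*} [CommRing R] [IsDomain R] [UniqueFactorizationMonoid R]
    [Field K] [IsAlgClosed K] (p : ℕ) [Fact p.Prime] [CharP K p]
    (φ : R →+* K) (hφ : Function.Injective φ) (ιR : ZMod p →+* R) {n : ℕ}
    (a : Fin n → R) (μ : R) (x : Fin n → R) (ha : ∀ i, a i ≠ 0) (hμ : μ ≠ 0)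
    (hcop : ∀ i j, i ≠ j → IsRelPrime (a i) (a j))
    (s : Fin n → ZMod p) (hs : s ≠ 0) (S : Finset (Fin n)) (hS : ∀ i, i ∈ S ↔ s i ≠ 0) :
    let I : Ideal (MvPolynomial (Fin n) R) :=
      Ideal.span (Set.range fun i : Fin n =>
        X i ^ p - C ((μ * a i) ^ (p - 1)) * X i - C (x i))
    let A := MvPolynomial (Fin n) R ⧸ I
    let u : Fin n → A := fun i => Ideal.Quotient.mk I (X i)
    let c : Fin n → R := fun i => ιR (s i)
    let α : R := ∏ i ∈ S, a i
    let αi : Fin n → R := fun i => ∏ j ∈ S.erase i, a j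
    let z : A := ∑ i ∈ S, algebraMap R A (c i * αi i) * u i
    let f : Polynomial R := Polynomial.X ^ p - Polynomial.C ((μ * α) ^ (p - 1)) * Polynomial.X
      - Polynomial.C (∑ i ∈ S, c i * αi i ^ p * x i)
    ∀ σ : Fin n → (A ≃ₐ[R] A),
      (∀ i j, σ i (u j) = u j + (if i = j then algebraMap R A (μ * a i) else 0)) →
      (∀ t : A, (∀ ν : Fin n → ZMod p, ∑ i, ν i * s i = 0 →
          (List.ofFn (fun i : Fin n => σ i ^ (ν i).val)).prod t = t) ↔
        t ∈ (Polynomial.aeval z : Polynomial R →ₐ[R] A).range) ∧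
      RingHom.ker (Polynomial.aeval z : Polynomial R →ₐ[R] A) = Ideal.span {f} := by
  intro I A u c α αi z f σ hσ
  classical
  have hp := (Fact.out : p.Prime)
  haveI : NeZero p := ⟨hp.ne_zero⟩
  have hz : z = Ideal.Quotient.mk I (zt ιR a s S) := by
    show (∑ i ∈ S, algebraMap R A (c i * αi i) * u i) = Ideal.Quotient.mk I (zt ιR a s S)
    rw [zt, map_sum]
    refine Finset.sum_congr rfl fun i _ => ?_
    exact (map_mul (Ideal.Quotient.mk I) (C (ιR (s i) * ∏ j ∈ S.erase i, a j)) (X i)).symm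
  -- the action on the generators
  have hτu : ∀ (ν : Fin n → ZMod p) (j : Fin n),
      (List.ofFn (fun i : Fin n => σ i ^ (ν i).val)).prod (u j)
        = u j + algebraMap R A (ιR (ν j) * (μ * a j)) := by
    intro ν j
    have h1 : ∀ i, (σ i ^ (ν i).val) (u j)
        = u j + algebraMap R A (((ν i).val : R) * (if i = j then μ * a i else 0)) := by
      intro i
      apply algEquiv_pow_apply
      rw [hσ i j]
      split_ifs <;> simp
    rw [list_prod_apply n _ (u j) _ h1]
    have hsum : ∑ i, ((ν i).val : R) * (if i = j then μ * a i else 0)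
        = ιR (ν j) * (μ * a j) := by
      rw [Finset.sum_eq_single j]
      · rw [if_pos rfl, ← map_natCast ιR, ZMod.natCast_zmod_val]
      · intro i _ hij; rw [if_neg hij, mul_zero]
      · intro h; exact absurd (Finset.mem_univ _) h
    rw [hsum]
  -- the action on classes of polynomials
  have hτG : ∀ (ν : Fin n → ZMod p) (G : MvPolynomial (Fin n) R),
      (List.ofFn (fun i : Fin n => σ i ^ (ν i).val)).prod (Ideal.Quotient.mk I G)
        = Ideal.Quotient.mk I (aeval (subst ιR a μ ν) G) := by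
    intro ν G
    have hh : ((List.ofFn (fun i : Fin n => σ i ^ (ν i).val)).prod : A →ₐ[R] A).comp
          (Ideal.Quotient.mkₐ R I)
        = (Ideal.Quotient.mkₐ R I).comp (aeval (subst ιR a μ ν)) := by
      apply MvPolynomial.algHom_ext
      intro j
      show (List.ofFn (fun i : Fin n => σ i ^ (ν i).val)).prod (Ideal.Quotient.mk I (X j))
        = Ideal.Quotient.mk I (aeval (subst ιR a μ ν) (X j))
      rw [aeval_X]
      refine (hτu ν j).trans ?_
      show _ = Ideal.Quotient.mk I (X j + C (ιR (ν j) * (μ * a j)))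
      rw [map_add]
      rfl
    exact DFunLike.congr_fun hh G
  have hmkaeval : ∀ Q : Polynomial R, Polynomial.aeval (Ideal.Quotient.mk I (zt ιR a s S)) Q
      = Ideal.Quotient.mk I (Polynomial.aeval (zt ιR a s S) Q) := fun Q =>
    Polynomial.aeval_algHom_apply (Ideal.Quotient.mkₐ R I) (zt ιR a s S) Q
  refine ⟨fun t => ⟨fun ht => ?_, fun ht => ?_⟩, ?_⟩
  · obtain ⟨F, rfl⟩ := Ideal.Quotient.mk_surjective t
    obtain ⟨G, hG, hFG⟩ := exists_reduced p hp.two_le (fun i => (μ * a i) ^ (p - 1)) x F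
    have hmk : Ideal.Quotient.mk I F = Ideal.Quotient.mk I G := Ideal.Quotient.eq.2 hFG
    have hinv : ∀ ν : Fin n → ZMod p, ∑ i, ν i * s i = 0 →
        aeval (subst ιR a μ ν) G - G ∈ relIdeal p (fun i => (μ * a i) ^ (p - 1)) x := by
      intro ν hν
      have h1 := ht ν hν
      rw [hmk, hτG ν G] at h1
      exact Ideal.Quotient.eq.1 h1
    obtain ⟨Q, hQ⟩ := inv_poly φ hφ ιR a μ x ha hμ hcop s hs S hS G hG hinv
    rw [AlgHom.mem_range]
    refine ⟨Q, ?_⟩
    rw [hmk, hz, hmkaeval, ← hQ]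
  · rw [AlgHom.mem_range] at ht
    obtain ⟨Q, rfl⟩ := ht
    intro ν hν
    have hzfix : (List.ofFn (fun i : Fin n => σ i ^ (ν i).val)).prod
        (Ideal.Quotient.mk I (zt ιR a s S)) = Ideal.Quotient.mk I (zt ιR a s S) := by
      rw [hτG ν, aeval_subst_zt ιR a μ s S hS ν, hν, map_zero, mul_zero, map_zero, add_zero]
    rw [hz, ← Polynomial.aeval_algHom_apply
      ((List.ofFn (fun i : Fin n => σ i ^ (ν i).val)).prod) _ Q, hzfix]
  · ext Q
    rw [RingHom.mem_ker, Ideal.mem_span_singleton, hz, hmkaeval, Ideal.Quotient.eq_zero_iff_mem]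
    exact ker_poly φ hφ ιR a μ x ha hμ s hs S hS Q

end Groth.Agent.Helper6.WQInv
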