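import Groth.Agent.Lib.Helper6.WQ.Free1

/-!
# Wild quotient singularities: the ring `B` of minor elements inside `A`

`ι : B → A`, injectivity, `A[1/g] = B[1/g][u_{i₀}]` with basis `1, u, …, u^(p-1)` and the
resulting divisibility descent (`g = μ a_{i₀}`).
-/

set_option autoImplicit false

namespace Groth.Agent.Helper6.WQMinor

open MvPolynomial
open Groth.Agent.Helper8.SepSys Groth.Agent.Helper8.WQ1

section Defs

variable {R : Type*} [CommRing R] (p : ℕ) {n : ℕ} (a : Fin n → R) (μ : R) (x : Fin n → R)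
  (i₀ : Fin n)

/-- relations of `A` -/
noncomputable abbrev IA : Ideal (MvPolynomial (Fin n) R) := relIdeal p (fun i => (μ * a i) ^ (p - 1)) x

/-- the ring `A` -/
abbrev AA : Type _ := MvPolynomial (Fin n) R ⧸ IA p a μ x

/-- relations of `B` -/
noncomputable abbrev IB : Ideal (MvPolynomial {j : Fin n // j ≠ i₀} R) :=
  relIdeal p (fun j : {j : Fin n // j ≠ i₀} => (μ * a i₀ * a j.1) ^ (p - 1))
    (fun j => a i₀ ^ p * x j.1 - a j.1 ^ p * x i₀)

/-- the ring `B` -/
abbrev BB : Type _ := MvPolynomial {j : Fin n // j ≠ i₀} R ⧸ IB p a μ x i₀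

/-- the minor elements -/
noncomputable def zz (j : {j : Fin n // j ≠ i₀}) : AA p a μ x :=
  algebraMap R (AA p a μ x) (a i₀) * Ideal.Quotient.mk (IA p a μ x) (X j.1)
    - algebraMap R (AA p a μ x) (a j.1) * Ideal.Quotient.mk (IA p a μ x) (X i₀)

/-- the comparison map `B → A` -/
noncomputable def iotaB
    (hker : IB p a μ x i₀ ≤ RingHom.ker
      (aeval (zz p a μ x i₀) : MvPolynomial {j : Fin n // j ≠ i₀} R →ₐ[R] AA p a μ x)) :
    BB p a μ x i₀ →+* AA p a μ x :=
  Ideal.Quotient.lift (IB p a μ x i₀)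
    (aeval (zz p a μ x i₀) : MvPolynomial {j : Fin n // j ≠ i₀} R →ₐ[R] AA p a μ x).toRingHom
    (fun F hF => RingHom.mem_ker.1 (hker hF))

variable (hker : IB p a μ x i₀ ≤ RingHom.ker
      (aeval (zz p a μ x i₀) : MvPolynomial {j : Fin n // j ≠ i₀} R →ₐ[R] AA p a μ x))

theorem iotaB_mk (F : MvPolynomial {j : Fin n // j ≠ i₀} R) :
    iotaB p a μ x i₀ hker (Ideal.Quotient.mk (IB p a μ x i₀) F)
      = Ideal.Quotient.mk (IA p a μ x) (aeval (Zv a i₀) F) := by
  rw [iotaB, Ideal.Quotient.lift_mk]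
  exact aeval_z_eq a i₀ (IA p a μ x) F

theorem iotaB_algebraMap (r : R) :
    iotaB p a μ x i₀ hker (algebraMap R (BB p a μ x i₀) r) = algebraMap R (AA p a μ x) r := by
  have h := iotaB_mk p a μ x i₀ hker (C r)
  rw [aeval_C] at h
  exact h

theorem iotaB_X (j : {j : Fin n // j ≠ i₀}) :
    iotaB p a μ x i₀ hker (Ideal.Quotient.mk (IB p a μ x i₀) (X j)) = zz p a μ x i₀ j := by
  rw [iotaB, Ideal.Quotient.lift_mk]
  exact aeval_X _ j

theorem iotaB_injective
    (hker' : RingHom.ker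
      (aeval (zz p a μ x i₀) : MvPolynomial {j : Fin n // j ≠ i₀} R →ₐ[R] AA p a μ x)
        ≤ IB p a μ x i₀) :
    Function.Injective (iotaB p a μ x i₀ hker) := by
  rw [injective_iff_map_eq_zero]
  intro t ht
  obtain ⟨F, rfl⟩ := Ideal.Quotient.mk_surjective t
  rw [iotaB, Ideal.Quotient.lift_mk] at ht
  exact Ideal.Quotient.eq_zero_iff_mem.2 (hker' (RingHom.mem_ker.2 ht))

/-- the relation of `u_{i₀}` in `A` -/
theorem rel_i0 :
    Ideal.Quotient.mk (IA p a μ x) (X i₀) ^ p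
      - algebraMap R (AA p a μ x) (μ * a i₀) ^ (p - 1) * Ideal.Quotient.mk (IA p a μ x) (X i₀)
      - algebraMap R (AA p a μ x) (x i₀) = 0 := by
  have h : Ideal.Quotient.mk (IA p a μ x) (rel p (fun i => (μ * a i) ^ (p - 1)) x i₀) = 0 :=
    Ideal.Quotient.eq_zero_iff_mem.2 (rel_mem p (fun i => (μ * a i) ^ (p - 1)) x i₀)
  rw [rel, map_sub, map_sub, map_mul, map_pow] at h
  have h2 : algebraMap R (AA p a μ x) ((μ * a i₀) ^ (p - 1))
      = algebraMap R (AA p a μ x) (μ * a i₀) ^ (p - 1) := map_pow _ _ _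
  rw [← h2]
  exact h

end Defs

section Main

variable {R K : Type*} [CommRing R] [Field K] [IsAlgClosed K] (p : ℕ) [Fact p.Prime] [CharP K p]
  (φ : R →+* K) (hφ : Function.Injective φ) {n : ℕ} (a : Fin n → R) (μ : R) (x : Fin n → R)
  (i₀ : Fin n) (ha : ∀ i, a i ≠ 0) (hμ : μ ≠ 0)
  (hker : IB p a μ x i₀ ≤ RingHom.ker
      (aeval (zz p a μ x i₀) : MvPolynomial {j : Fin n // j ≠ i₀} R →ₐ[R] AA p a μ x))

include hφ ha hμ in
/-- `1, u_{i₀}, …, u_{i₀}^(p-1)` are linearly independent over `B`. -/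
theorem indep (F : Polynomial (BB p a μ x i₀)) (hdeg : F.natDegree < p)
    (h0 : Polynomial.eval₂ (iotaB p a μ x i₀ hker)
      (Ideal.Quotient.mk (IA p a μ x) (X i₀)) F = 0) : F = 0 := by
  classical
  have hp := (Fact.out : p.Prime)
  have hM : φ μ ≠ 0 := (map_ne_zero_iff φ hφ).2 hμ
  have hA : ∀ i, φ (a i) ≠ 0 := fun i => (map_ne_zero_iff φ hφ).2 (ha i)
  have hcF : ∀ i, φ ((μ * a i) ^ (p - 1)) ≠ 0 := by
    intro i; rw [map_pow, map_mul]; exact pow_ne_zero _ (mul_ne_zero hM (hA i))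
  have hcR : ∀ j : {j : Fin n // j ≠ i₀}, φ ((μ * a i₀ * a j.1) ^ (p - 1)) ≠ 0 := by
    intro j; rw [map_pow, map_mul, map_mul]
    exact pow_ne_zero _ (mul_ne_zero (mul_ne_zero hM (hA i₀)) (hA j.1))
  -- reduced representatives of the coefficients
  have hrep : ∀ k : ℕ, ∃ G ∈ restrictDegree {j : Fin n // j ≠ i₀} R (p - 1),
      Ideal.Quotient.mk (IB p a μ x i₀) G = F.coeff k := by
    intro k
    obtain ⟨G0, hG0⟩ := Ideal.Quotient.mk_surjective (F.coeff k)
    obtain ⟨G, hG, hGG⟩ := exists_reduced p hp.two_le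
      (fun j : {j : Fin n // j ≠ i₀} => (μ * a i₀ * a j.1) ^ (p - 1))
      (fun j => a i₀ ^ p * x j.1 - a j.1 ^ p * x i₀) G0
    exact ⟨G, hG, by rw [← hG0]; exact (Ideal.Quotient.eq.2 hGG).symm⟩
  choose G hGred hGk using hrep
  have hE : ∑ k ∈ Finset.range p, aeval (Zv a i₀) (G k) * X i₀ ^ k ∈ IA p a μ x := by
    rw [← Ideal.Quotient.eq_zero_iff_mem, map_sum, ← h0,
      Polynomial.eval₂_eq_sum_range' _ hdeg]
    refine Finset.sum_congr rfl fun k _ => ?_
    rw [map_mul, map_pow, ← hGk k, iotaB_mk]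
  -- grids
  choose SB hSBcard hSBroot using fun j : {j : Fin n // j ≠ i₀} =>
    exists_roots p (φ ((μ * a i₀ * a j.1) ^ (p - 1)))
      (φ (a i₀ ^ p * x j.1 - a j.1 ^ p * x i₀)) (hcR j)
  obtain ⟨S0, hS0card, hS0⟩ := exists_roots p (φ ((μ * a i₀) ^ (p - 1))) (φ (x i₀)) (hcF i₀)
  have hvanish : ∀ ζ : {j : Fin n // j ≠ i₀} → K, (∀ j, ζ j ∈ SB j) →
      ∀ k, k < p → eval₂ φ ζ (G k) = 0 := by
    intro ζ hζ
    have hζroot : ∀ j : {j : Fin n // j ≠ i₀},
        ζ j ^ p - φ ((μ * a i₀ * a j.1) ^ (p - 1)) * ζ j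
          - φ (a i₀ ^ p * x j.1 - a j.1 ^ p * x i₀) = 0 := fun j => hSBroot j (ζ j) (hζ j)
    obtain ⟨T, hT⟩ : ∃ T : Polynomial K, T = ∑ k ∈ Finset.range p,
        Polynomial.C (eval₂ φ ζ (G k)) * Polynomial.X ^ k := ⟨_, rfl⟩
    have hTdeg : T.natDegree < p := by
      rw [hT]
      refine lt_of_le_of_lt
        (Polynomial.natDegree_sum_le_of_forall_le _ _ (n := p - 1) ?_)
        (by have := hp.pos; omega)
      intro k hk
      refine (Polynomial.natDegree_C_mul_X_pow_le _ _).trans ?_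
      have := Finset.mem_range.1 hk; omega
    have hTev : ∀ ρ₀ ∈ S0, T.eval ρ₀ = 0 := by
      intro ρ₀ hρ₀
      obtain ⟨ρ, hρ, hb, hc⟩ := lift_root p φ a μ x i₀ (hA i₀) ζ hζroot ρ₀ (hS0 ρ₀ hρ₀)
      have h1 := eval₂_eq_zero_of_mem φ p (fun i => (μ * a i) ^ (p - 1)) x ρ hρ _ hE
      have hfun : (fun j => eval₂ φ ρ (Zv a i₀ j)) = ζ := by
        funext j; rw [eval₂_Zv]; exact hc j
      rw [eval₂_sum] at h1
      rw [hT, Polynomial.eval_finsetSum, ← h1]
      refine Finset.sum_congr rfl fun k _ => ?_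
      rw [eval₂_mul, eval₂_pow, eval₂_X, eval₂_aeval', hfun, hb, Polynomial.eval_mul,
        Polynomial.eval_C, Polynomial.eval_pow, Polynomial.eval_X]
    have hT0 : T = 0 :=
      Polynomial.eq_zero_of_natDegree_lt_card_of_eval_eq_zero' T S0 hTev
        (by rw [hS0card]; exact hTdeg)
    intro k hk
    have h2 : T.coeff k = eval₂ φ ζ (G k) := by
      rw [hT, Polynomial.finsetSum_coeff]
      simp only [Polynomial.coeff_C_mul_X_pow]
      rw [Finset.sum_ite_eq (Finset.range p) k, if_pos (Finset.mem_range.2 hk)]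
    rw [← h2, hT0, Polynomial.coeff_zero]
  have hG0 : ∀ k, k < p → G k = 0 := by
    intro k hk
    refine eq_zero_of_grid φ hφ p hp.pos SB hSBcard (G k) (hGred k) ?_
    intro ζ hζ
    exact hvanish ζ hζ k hk
  ext k
  rw [Polynomial.coeff_zero]
  by_cases hk : k < p
  · rw [← hGk k, hG0 k hk, map_zero]
  · exact Polynomial.coeff_eq_zero_of_natDegree_lt (by omega)

/-- after inverting `g = μ a_{i₀}`, `A` is spanned over `B` by `1, u_{i₀}, …, u_{i₀}^(p-1)`. -/
theorem span_loc [Nontrivial (BB p a μ x i₀)] (t : AA p a μ x) :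
    ∃ (N : ℕ) (F : Polynomial (BB p a μ x i₀)), F.natDegree < p ∧
      Polynomial.eval₂ (iotaB p a μ x i₀ hker) (Ideal.Quotient.mk (IA p a μ x) (X i₀)) F
        = algebraMap R (AA p a μ x) (μ * a i₀) ^ N * t := by
  have hp := (Fact.out : p.Prime)
  have step1 : ∀ G : MvPolynomial (Fin n) R, ∃ (N : ℕ) (F : Polynomial (BB p a μ x i₀)),
      Polynomial.eval₂ (iotaB p a μ x i₀ hker) (Ideal.Quotient.mk (IA p a μ x) (X i₀)) F
        = algebraMap R (AA p a μ x) (μ * a i₀) ^ N * Ideal.Quotient.mk (IA p a μ x) G := by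
    intro G
    induction G using MvPolynomial.induction_on with
    | C r =>
      refine ⟨0, Polynomial.C (algebraMap R (BB p a μ x i₀) r), ?_⟩
      rw [Polynomial.eval₂_C, iotaB_algebraMap, pow_zero, one_mul]
      rfl
    | add G1 G2 h1 h2 =>
      obtain ⟨N1, F1, hF1⟩ := h1
      obtain ⟨N2, F2, hF2⟩ := h2
      refine ⟨N1 + N2, Polynomial.C (algebraMap R (BB p a μ x i₀) (μ * a i₀) ^ N2) * F1
        + Polynomial.C (algebraMap R (BB p a μ x i₀) (μ * a i₀) ^ N1) * F2, ?_⟩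
      rw [Polynomial.eval₂_add, Polynomial.eval₂_mul, Polynomial.eval₂_mul, Polynomial.eval₂_C,
        Polynomial.eval₂_C, hF1, hF2, map_pow, map_pow, iotaB_algebraMap, map_add]
      ring
    | mul_X G j h =>
      obtain ⟨N, F, hF⟩ := h
      by_cases hj : j = i₀
      · refine ⟨N + 1, F * (Polynomial.C (algebraMap R (BB p a μ x i₀) (μ * a i₀))
          * Polynomial.X), ?_⟩
        rw [Polynomial.eval₂_mul, Polynomial.eval₂_mul, Polynomial.eval₂_C, Polynomial.eval₂_X,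
          hF, iotaB_algebraMap, hj, map_mul (Ideal.Quotient.mk (IA p a μ x))]
        ring
      · refine ⟨N + 1, F * (Polynomial.C (algebraMap R (BB p a μ x i₀) μ
            * Ideal.Quotient.mk (IB p a μ x i₀) (X ⟨j, hj⟩))
          + Polynomial.C (algebraMap R (BB p a μ x i₀) (μ * a j)) * Polynomial.X), ?_⟩
        rw [Polynomial.eval₂_mul, Polynomial.eval₂_add, Polynomial.eval₂_mul,
          Polynomial.eval₂_C, Polynomial.eval₂_C, Polynomial.eval₂_X, hF,
          map_mul (iotaB p a μ x i₀ hker), iotaB_algebraMap, iotaB_algebraMap, iotaB_X, zz,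
          map_mul (Ideal.Quotient.mk (IA p a μ x)), map_mul (algebraMap R (AA p a μ x)),
          map_mul (algebraMap R (AA p a μ x))]
        ring
  obtain ⟨G, rfl⟩ := Ideal.Quotient.mk_surjective t
  obtain ⟨N, F, hF⟩ := step1 G
  obtain ⟨hmonic, hnat⟩ := Groth.Agent.Helper6.WQFree.as_monic p hp
    (algebraMap R (BB p a μ x i₀) (μ * a i₀) ^ (p - 1)) (algebraMap R (BB p a μ x i₀) (x i₀))
  have hne1 : (Polynomial.X ^ p
      - Polynomial.C (algebraMap R (BB p a μ x i₀) (μ * a i₀) ^ (p - 1)) * Polynomial.X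
      - Polynomial.C (algebraMap R (BB p a μ x i₀) (x i₀)) : Polynomial (BB p a μ x i₀)) ≠ 1 := by
    intro h
    rw [h, Polynomial.natDegree_one] at hnat
    exact hp.ne_zero hnat.symm
  have hΨh : Polynomial.eval₂ (iotaB p a μ x i₀ hker) (Ideal.Quotient.mk (IA p a μ x) (X i₀))
      (Polynomial.X ^ p
      - Polynomial.C (algebraMap R (BB p a μ x i₀) (μ * a i₀) ^ (p - 1)) * Polynomial.X
      - Polynomial.C (algebraMap R (BB p a μ x i₀) (x i₀))) = 0 := by
    rw [Polynomial.eval₂_sub, Polynomial.eval₂_sub, Polynomial.eval₂_mul, Polynomial.eval₂_pow,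
      Polynomial.eval₂_X, Polynomial.eval₂_C, Polynomial.eval₂_C, map_pow, iotaB_algebraMap,
      iotaB_algebraMap]
    exact rel_i0 p a μ x i₀
  refine ⟨N, F %ₘ (Polynomial.X ^ p
      - Polynomial.C (algebraMap R (BB p a μ x i₀) (μ * a i₀) ^ (p - 1)) * Polynomial.X
      - Polynomial.C (algebraMap R (BB p a μ x i₀) (x i₀))), ?_, ?_⟩
  · have h1 := Polynomial.natDegree_modByMonic_lt F hmonic hne1
    rwa [hnat] at h1
  · rw [Polynomial.modByMonic_eq_sub_mul_div, Polynomial.eval₂_sub, Polynomial.eval₂_mul, hΨh,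
      zero_mul, sub_zero, hF]

include hφ ha hμ in
/-- divisibility in `A` between images of elements of `B` descends to `B` up to powers of
`g = μ a_{i₀}`. -/
theorem dvd_desc [Nontrivial (BB p a μ x i₀)] (b1 b2 : BB p a μ x i₀)
    (hdvd : iotaB p a μ x i₀ hker b2 ∣ iotaB p a μ x i₀ hker b1) :
    ∃ (N : ℕ) (β : BB p a μ x i₀),
      β * b2 = algebraMap R (BB p a μ x i₀) (μ * a i₀) ^ N * b1 := by
  have hp := (Fact.out : p.Prime)
  obtain ⟨t, ht⟩ := hdvd
  obtain ⟨N, F, hFdeg, hF⟩ := span_loc p a μ x i₀ hker t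
  have hzero : F * Polynomial.C b2
      - Polynomial.C (algebraMap R (BB p a μ x i₀) (μ * a i₀) ^ N * b1) = 0 := by
    apply indep p φ hφ a μ x i₀ ha hμ hker
    · refine lt_of_le_of_lt (Polynomial.natDegree_sub_le _ _) ?_
      rw [Polynomial.natDegree_C]
      exact max_lt (lt_of_le_of_lt (Polynomial.natDegree_mul_C_le _ _) hFdeg) hp.pos
    · rw [Polynomial.eval₂_sub, Polynomial.eval₂_mul, Polynomial.eval₂_C, Polynomial.eval₂_C, hF,
        map_mul (iotaB p a μ x i₀ hker), map_pow (iotaB p a μ x i₀ hker), iotaB_algebraMap, ht]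
      ring
  have h0 := congrArg (fun P => Polynomial.coeff P 0) hzero
  simp only [Polynomial.coeff_sub, Polynomial.coeff_mul_C, Polynomial.coeff_C_zero,
    Polynomial.coeff_zero] at h0
  exact ⟨N, F.coeff 0, sub_eq_zero.1 h0⟩

end Main

end Groth.Agent.Helper6.WQMinor
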