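import Mathlib

/-!
# Descent of normality to a localization along a divisibility-reflecting injection
-/

set_option autoImplicit false

namespace Groth.Agent.Helper6.WQNorm

/-- Let `ι : B → A` be an injection of domains with `A` integrally closed, `g ≠ 0` in `B`, and
suppose divisibility in `A` between images of elements of `B` descends to `B` up to powers of
`g`. Then `B[1/g]` is integrally closed. -/
theorem isIntegrallyClosed_away {B A : Type*} [CommRing B] [IsDomain B] [CommRing A] [IsDomain A]
    [IsIntegrallyClosed A] (ι : B →+* A) (hι : Function.Injective ι) (g : B) (hg : g ≠ 0)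
    (hdvd : ∀ b1 b2 : B, b2 ≠ 0 → ι b2 ∣ ι b1 → ∃ (N : ℕ) (β : B), β * b2 = g ^ N * b1)
    (S : Type*) [CommRing S] [Algebra B S] [IsLocalization.Away g S] : IsIntegrallyClosed S := by
  classical
  have hM : Submonoid.powers g ≤ nonZeroDivisors B :=
    powers_le_nonZeroDivisors_of_noZeroDivisors hg
  haveI : IsDomain S := IsLocalization.isDomain_of_le_nonZeroDivisors S hM
  have hunit : IsUnit ((algebraMap B (FractionRing B)) g) :=
    IsUnit.mk0 _ ((map_ne_zero_iff _ (IsFractionRing.injective B (FractionRing B))).2 hg)
  letI algSK : Algebra S (FractionRing B) := (IsLocalization.Away.lift (S := S) g hunit).toAlgebra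
  haveI : IsScalarTower B S (FractionRing B) :=
    IsScalarTower.of_algebraMap_eq (fun b => (IsLocalization.Away.lift_eq g hunit b).symm)
  haveI : IsFractionRing S (FractionRing B) :=
    IsFractionRing.isFractionRing_of_isDomain_of_isLocalization (Submonoid.powers g) S
      (FractionRing B)
  rw [isIntegrallyClosed_iff (FractionRing B)]
  intro y hy
  obtain ⟨⟨m, hm⟩, hmy⟩ :=
    IsIntegral.exists_multiple_integral_of_isLocalization (Submonoid.powers g) y hy
  obtain ⟨N1, rfl⟩ := (Submonoid.mem_powers_iff _ _).1 hm
  rw [Submonoid.smul_def, Algebra.smul_def] at hmy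
  obtain ⟨b1, b2, hb2, rfl⟩ := IsFractionRing.div_surjective B y
  have hb2' : b2 ≠ 0 := nonZeroDivisors.ne_zero hb2
  have hinjA : Function.Injective ((algebraMap A (FractionRing A)).comp ι) :=
    (IsFractionRing.injective A (FractionRing A)).comp hι
  obtain ⟨Θ, hΘ⟩ : ∃ Θ : FractionRing B →+* FractionRing A,
      ∀ b, Θ (algebraMap B (FractionRing B) b) = algebraMap A (FractionRing A) (ι b) :=
    ⟨IsFractionRing.lift hinjA, fun b => IsFractionRing.lift_algebraMap hinjA b⟩
  have hint : IsIntegral A (Θ (algebraMap B (FractionRing B) (g ^ N1) *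
      (algebraMap B (FractionRing B) b1 / algebraMap B (FractionRing B) b2))) := by
    refine IsIntegral.map_of_comp_eq ι Θ ?_ hmy
    refine RingHom.ext fun b => ?_
    rw [RingHom.comp_apply, RingHom.comp_apply, hΘ]
  obtain ⟨t, ht⟩ := IsIntegrallyClosed.algebraMap_eq_of_integral hint
  have hb2K : algebraMap A (FractionRing A) (ι b2) ≠ 0 := by
    intro h
    apply hb2'
    apply hι
    apply IsFractionRing.injective A (FractionRing A)
    rw [h, map_zero, map_zero]
  have h1 : ι (g ^ N1 * b1) = ι b2 * t := by
    apply IsFractionRing.injective A (FractionRing A)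
    have h2 : algebraMap A (FractionRing A) t = algebraMap A (FractionRing A) (ι (g ^ N1)) *
        (algebraMap A (FractionRing A) (ι b1) / algebraMap A (FractionRing A) (ι b2)) := by
      rw [ht, map_mul, map_div₀, hΘ, hΘ, hΘ]
    have h3 : algebraMap A (FractionRing A) (ι b1) / algebraMap A (FractionRing A) (ι b2) *
        algebraMap A (FractionRing A) (ι b2) = algebraMap A (FractionRing A) (ι b1) :=
      div_mul_cancel₀ _ hb2K
    rw [map_mul ι, map_mul (algebraMap A (FractionRing A)),
      map_mul (algebraMap A (FractionRing A)), h2]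
    linear_combination (-(algebraMap A (FractionRing A) (ι (g ^ N1)))) * h3
  obtain ⟨N2, β, hβ⟩ := hdvd (g ^ N1 * b1) b2 hb2' ⟨t, h1⟩
  refine ⟨algebraMap B S β * IsLocalization.Away.invSelf g ^ (N2 + N1), ?_⟩
  have hw : algebraMap B (FractionRing B) g *
      algebraMap S (FractionRing B) (IsLocalization.Away.invSelf g) = 1 := by
    rw [IsScalarTower.algebraMap_apply B S (FractionRing B), ← map_mul,
      IsLocalization.Away.mul_invSelf, map_one]
  have hβK : algebraMap B (FractionRing B) β * algebraMap B (FractionRing B) b2 =
      algebraMap B (FractionRing B) g ^ (N2 + N1) * algebraMap B (FractionRing B) b1 := by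
    rw [← map_mul, hβ, map_mul, map_pow, map_mul, map_pow, pow_add]; ring
  have hb2KB : algebraMap B (FractionRing B) b2 ≠ 0 :=
    (map_ne_zero_iff _ (IsFractionRing.injective B (FractionRing B))).2 hb2'
  rw [map_mul, map_pow, ← IsScalarTower.algebraMap_apply B S (FractionRing B),
    eq_div_iff hb2KB]
  have hone : (algebraMap B (FractionRing B) g *
      algebraMap S (FractionRing B) (IsLocalization.Away.invSelf g)) ^ (N2 + N1) = 1 := by
    rw [hw, one_pow]
  linear_combination (algebraMap S (FractionRing B) (IsLocalization.Away.invSelf g)) ^ (N2 + N1)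
    * hβK + algebraMap B (FractionRing B) b1 * hone

end Groth.Agent.Helper6.WQNorm
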