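import Groth.Agent.Lib.Helper6.WQ.Free1
import Groth.Agent.Lib.Helper8.MvPSDim
import Groth.Agent.Lib.Helper8.RegularLocal
import Groth.Agent.Lib.Helper4.DimFT1

/-!
# `A = k[[x]][u]/(u_i^p - c_i u_i - x_i)` is a regular local ring with maximal ideal `(u)`
-/

set_option autoImplicit false
universe u

namespace Groth.Agent.Helper6.WQReg

open MvPolynomial
open Groth.Agent.Helper8.SepSys

variable {k : Type u} [Field k] (p : ℕ) [Fact p.Prime] {n : ℕ}
  (c : Fin n → MvPowerSeries (Fin n) k)

/-- the ring `A = R[u]/(u_i^p - c_i u_i - x_i)` over `R = k[[x_1..x_n]]` -/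
abbrev AA : Type u :=
  MvPolynomial (Fin n) (MvPowerSeries (Fin n) k) ⧸ relIdeal p c MvPowerSeries.X

/-- the generators `u_i` -/
noncomputable abbrev uu (i : Fin n) : AA p c :=
  Ideal.Quotient.mk (relIdeal p c MvPowerSeries.X) (X i)

theorem rel_eq (i : Fin n) :
    algebraMap (MvPowerSeries (Fin n) k) (AA p c) (MvPowerSeries.X i)
      = uu p c i ^ p - algebraMap (MvPowerSeries (Fin n) k) (AA p c) (c i) * uu p c i := by
  have h : Ideal.Quotient.mk (relIdeal p c MvPowerSeries.X) (rel p c MvPowerSeries.X i) = 0 :=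
    Ideal.Quotient.eq_zero_iff_mem.2 (rel_mem p c MvPowerSeries.X i)
  rw [rel, map_sub, map_sub, map_mul, map_pow] at h
  have h' : uu p c i ^ p - algebraMap (MvPowerSeries (Fin n) k) (AA p c) (c i) * uu p c i
      - algebraMap (MvPowerSeries (Fin n) k) (AA p c) (MvPowerSeries.X i) = 0 := h
  exact (sub_eq_zero.1 h').symm

theorem aug_aux (F : MvPolynomial (Fin n) (MvPowerSeries (Fin n) k))
    (hF : F ∈ relIdeal p c MvPowerSeries.X) :
    eval₂Hom (MvPowerSeries.constantCoeff (σ := Fin n) (R := k)) (fun _ => (0 : k)) F = 0 := by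
  have hp := (Fact.out : p.Prime)
  have h := eval₂_eq_zero_of_mem (MvPowerSeries.constantCoeff (σ := Fin n) (R := k)) p c
    MvPowerSeries.X (fun _ => (0 : k)) (fun i => by simp [zero_pow hp.ne_zero]) F hF
  exact h

/-- the augmentation `A → k` -/
noncomputable def aug : AA p c →+* k :=
  Ideal.Quotient.lift (relIdeal p c MvPowerSeries.X)
    (eval₂Hom (MvPowerSeries.constantCoeff (σ := Fin n) (R := k)) (fun _ => (0 : k)))
    (aug_aux p c)

theorem aug_mk (F : MvPolynomial (Fin n) (MvPowerSeries (Fin n) k)) :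
    aug p c (Ideal.Quotient.mk _ F)
      = eval₂ MvPowerSeries.constantCoeff (fun _ => (0 : k)) F := rfl

theorem aug_uu (i : Fin n) : aug p c (uu p c i) = 0 := by
  show aug p c (Ideal.Quotient.mk _ (X i)) = _
  rw [aug_mk, eval₂_X]

theorem algebraMap_mem_span (r : MvPowerSeries (Fin n) k)
    (hr : MvPowerSeries.constantCoeff r = 0) :
    algebraMap (MvPowerSeries (Fin n) k) (AA p c) r ∈ Ideal.span (Set.range (uu p c)) := by
  have hp := (Fact.out : p.Prime)
  have h1 : r ∈ IsLocalRing.maximalIdeal (MvPowerSeries (Fin n) k) :=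
    (Groth.Agent.Helper8.mvPowerSeries_mem_maximalIdeal_iff (Fin n) k r).2 hr
  rw [Groth.Agent.Helper8.mvPowerSeries_maximalIdeal_eq] at h1
  have h2 := Ideal.mem_map_of_mem (algebraMap (MvPowerSeries (Fin n) k) (AA p c)) h1
  rw [Ideal.map_span] at h2
  refine (Ideal.span_le.2 ?_) h2
  rintro _ ⟨_, ⟨i, rfl⟩, rfl⟩
  show algebraMap (MvPowerSeries (Fin n) k) (AA p c) (MvPowerSeries.X i)
    ∈ Ideal.span (Set.range (uu p c))
  rw [rel_eq]
  have hu : uu p c i ∈ Ideal.span (Set.range (uu p c)) := Ideal.subset_span ⟨i, rfl⟩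
  refine Ideal.sub_mem _ ?_ (Ideal.mul_mem_left _ _ hu)
  have hpow : uu p c i ^ p = uu p c i ^ (p - 1) * uu p c i := by
    rw [← pow_succ, Nat.sub_add_cancel hp.one_le]
  rw [hpow]
  exact Ideal.mul_mem_left _ _ hu

theorem sub_const_mem (F : MvPolynomial (Fin n) (MvPowerSeries (Fin n) k)) :
    Ideal.Quotient.mk (relIdeal p c MvPowerSeries.X) F
      - algebraMap (MvPowerSeries (Fin n) k) (AA p c)
          (MvPowerSeries.C (eval₂ MvPowerSeries.constantCoeff (fun _ => (0 : k)) F))
      ∈ Ideal.span (Set.range (uu p c)) := by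
  induction F using MvPolynomial.induction_on with
  | C r =>
    rw [eval₂_C]
    have h : Ideal.Quotient.mk (relIdeal p c MvPowerSeries.X) (C r)
        - algebraMap (MvPowerSeries (Fin n) k) (AA p c)
            (MvPowerSeries.C (MvPowerSeries.constantCoeff r))
        = algebraMap (MvPowerSeries (Fin n) k) (AA p c)
            (r - MvPowerSeries.C (MvPowerSeries.constantCoeff r)) := by
      rw [map_sub]; rfl
    rw [h]
    apply algebraMap_mem_span
    rw [map_sub, MvPowerSeries.constantCoeff_C, sub_self]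
  | add F G hF hG =>
    have h : Ideal.Quotient.mk (relIdeal p c MvPowerSeries.X) (F + G)
        - algebraMap (MvPowerSeries (Fin n) k) (AA p c)
          (MvPowerSeries.C (eval₂ MvPowerSeries.constantCoeff (fun _ => (0 : k)) (F + G)))
        = (Ideal.Quotient.mk (relIdeal p c MvPowerSeries.X) F
          - algebraMap (MvPowerSeries (Fin n) k) (AA p c)
            (MvPowerSeries.C (eval₂ MvPowerSeries.constantCoeff (fun _ => (0 : k)) F)))
          + (Ideal.Quotient.mk (relIdeal p c MvPowerSeries.X) G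
          - algebraMap (MvPowerSeries (Fin n) k) (AA p c)
            (MvPowerSeries.C (eval₂ MvPowerSeries.constantCoeff (fun _ => (0 : k)) G))) := by
      rw [eval₂_add, map_add, map_add, map_add]; ring
    rw [h]
    exact Ideal.add_mem _ hF hG
  | mul_X F i hF =>
    simp only [eval₂_mul, eval₂_X, mul_zero, map_zero, sub_zero, map_mul]
    exact Ideal.mul_mem_left _ _ (Ideal.subset_span ⟨i, rfl⟩)

variable [Module.Finite (MvPowerSeries (Fin n) k) (AA p c)]

theorem isUnit_of_aug_ne_zero (hc0 : ∀ i, MvPowerSeries.constantCoeff (c i) = 0)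
    (t : AA p c) (ht : aug p c t ≠ 0) : IsUnit t := by
  have hp := (Fact.out : p.Prime)
  haveI : Algebra.IsIntegral (MvPowerSeries (Fin n) k) (AA p c) :=
    Algebra.IsIntegral.of_finite _ _
  by_contra hnu
  obtain ⟨N, hN, htN⟩ := exists_max_ideal_of_mem_nonunits (mem_nonunits_iff.2 hnu)
  haveI := hN
  have hcomap : N.comap (algebraMap (MvPowerSeries (Fin n) k) (AA p c))
      = IsLocalRing.maximalIdeal _ :=
    IsLocalRing.eq_maximalIdeal (Ideal.isMaximal_comap_of_isIntegral_of_isMaximal N)
  have hmem : ∀ r : MvPowerSeries (Fin n) k, MvPowerSeries.constantCoeff r = 0 →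
      algebraMap (MvPowerSeries (Fin n) k) (AA p c) r ∈ N := by
    intro r hr
    rw [← Ideal.mem_comap, hcomap, Groth.Agent.Helper8.mvPowerSeries_mem_maximalIdeal_iff]
    exact hr
  have hu : ∀ i, uu p c i ∈ N := by
    intro i
    apply hN.isPrime.mem_of_pow_mem p
    have h1 := rel_eq p c i
    have h2 : uu p c i ^ p = algebraMap (MvPowerSeries (Fin n) k) (AA p c) (MvPowerSeries.X i)
        + algebraMap (MvPowerSeries (Fin n) k) (AA p c) (c i) * uu p c i := by
      rw [h1]; ring
    rw [h2]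
    exact N.add_mem (hmem _ (MvPowerSeries.constantCoeff_X i))
      (N.mul_mem_right _ (hmem _ (hc0 i)))
  have hspan : Ideal.span (Set.range (uu p c)) ≤ N := by
    rw [Ideal.span_le]
    rintro _ ⟨i, rfl⟩
    exact hu i
  obtain ⟨F, rfl⟩ := Ideal.Quotient.mk_surjective t
  have h3 := hspan (sub_const_mem p c F)
  have h4 : algebraMap (MvPowerSeries (Fin n) k) (AA p c)
      (MvPowerSeries.C (eval₂ MvPowerSeries.constantCoeff (fun _ => (0 : k)) F)) ∈ N := by
    have h5 := N.sub_mem htN h3
    rwa [sub_sub_cancel] at h5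
  have h6 : IsUnit (algebraMap (MvPowerSeries (Fin n) k) (AA p c)
      (MvPowerSeries.C (eval₂ MvPowerSeries.constantCoeff (fun _ => (0 : k)) F))) := by
    apply IsUnit.map
    apply IsUnit.map
    exact IsUnit.mk0 _ ht
  exact hN.ne_top (N.eq_top_of_isUnit_mem h4 h6)

theorem isLocalRing [Nontrivial (AA p c)]
    (hc0 : ∀ i, MvPowerSeries.constantCoeff (c i) = 0) : IsLocalRing (AA p c) := by
  apply IsLocalRing.of_nonunits_add
  intro y z hy hz
  rw [mem_nonunits_iff] at hy hz ⊢
  have hy0 : aug p c y = 0 := by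
    by_contra h; exact hy (isUnit_of_aug_ne_zero p c hc0 y h)
  have hz0 : aug p c z = 0 := by
    by_contra h; exact hz (isUnit_of_aug_ne_zero p c hc0 z h)
  intro hyz
  have h1 := (hyz.map (aug p c)).ne_zero
  rw [map_add, hy0, hz0, add_zero] at h1
  exact h1 rfl

theorem maximalIdeal_eq [IsLocalRing (AA p c)]
    (hc0 : ∀ i, MvPowerSeries.constantCoeff (c i) = 0) :
    IsLocalRing.maximalIdeal (AA p c) = Ideal.span (Set.range (uu p c)) := by
  apply le_antisymm
  · intro t ht
    rw [IsLocalRing.mem_maximalIdeal, mem_nonunits_iff] at ht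
    have ht0 : aug p c t = 0 := by
      by_contra h; exact ht (isUnit_of_aug_ne_zero p c hc0 t h)
    obtain ⟨F, rfl⟩ := Ideal.Quotient.mk_surjective t
    have h1 := sub_const_mem p c F
    have h2 : eval₂ MvPowerSeries.constantCoeff (fun _ => (0 : k)) F = 0 := ht0
    rw [h2, map_zero, map_zero, sub_zero] at h1
    exact h1
  · rw [Ideal.span_le]
    rintro _ ⟨i, rfl⟩
    rw [SetLike.mem_coe, IsLocalRing.mem_maximalIdeal, mem_nonunits_iff]
    intro hu
    have h1 := (hu.map (aug p c)).ne_zero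
    exact h1 (aug_uu p c i)

theorem isRegularLocalRing [Nontrivial (AA p c)]
    (hc0 : ∀ i, MvPowerSeries.constantCoeff (c i) = 0)
    (hinj : Function.Injective (algebraMap (MvPowerSeries (Fin n) k) (AA p c))) :
    IsRegularLocalRing (AA p c) := by
  haveI := isLocalRing p c hc0
  haveI : IsNoetherianRing (AA p c) :=
    IsNoetherianRing.of_finite (MvPowerSeries (Fin n) k) (AA p c)
  haveI : Algebra.IsIntegral (MvPowerSeries (Fin n) k) (AA p c) :=
    Algebra.IsIntegral.of_finite _ _
  apply IsRegularLocalRing.of_spanFinrank_maximalIdeal_le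
  rw [Groth.Agent.Lib.Helper4.DimFT1.ringKrullDim_eq_of_isIntegral_of_injective _ _ hinj,
    Groth.Agent.Helper8.ringKrullDim_mvPowerSeries_fin, maximalIdeal_eq p c hc0]
  have h1 : (Ideal.span (Set.range (uu p c))).spanFinrank ≤ n := by
    refine le_trans (Submodule.spanFinrank_span_le_ncard_of_finite (Set.finite_range _)) ?_
    rw [← Set.image_univ]
    refine le_trans (Set.ncard_image_le Set.finite_univ) ?_
    simp
  exact_mod_cast h1

end Groth.Agent.Helper6.WQReg
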